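import Groth.Agent.RelVALib.Projective
import Groth.Agent.CycLib28.PB.OfRelProj
import Groth.Agent.CycLib28.PB.Ops.LocFree
import Groth.Agent.KModel28.Basic
import Groth.Agent.KPull28.Basic
import Groth.Agent.Models7.Factor
import Groth.Agent.VarietyLib.AmpleComponents
import Groth.Agent.Props12.KerReduced
import Groth.Agent.DQCoh.FreeLocus17

/-!
# After a modification a vector bundle is an iterated extension of line bundles
-/

set_option autoImplicit false
set_option linter.style.haveILetI false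
set_option backward.isDefEq.respectTransparency.types false
set_option maxHeartbeats 1000000

universe u

open CategoryTheory CategoryTheory.Limits AlgebraicGeometry Opposite TopologicalSpace

namespace Groth.Agent.FlagModH2

/-- A closed immersion of a reduced scheme factors through any closed immersion with larger image. -/
theorem exists_lift_of_range_le {A B Q : Scheme.{u}} (c : A ⟶ Q) (d : B ⟶ Q) [IsClosedImmersion c]
    [IsClosedImmersion d] [IsReduced A] (h : Set.range c ⊆ Set.range d) : ∃ a : A ⟶ B, a ≫ d = c := by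
  haveI : Surjective (pullback.fst c d) := ⟨fun x => by
    obtain ⟨y, hy⟩ := h ⟨x, rfl⟩
    obtain ⟨z, hz, -⟩ := Scheme.Pullback.exists_preimage_pullback (f := c) (g := d) x y hy.symm
    exact ⟨z, hz⟩⟩
  haveI := isIso_of_isClosedImmersion_of_surjective (pullback.fst c d)
  exact ⟨inv (pullback.fst c d) ≫ pullback.snd c d, by
    rw [Category.assoc, ← pullback.condition, IsIso.inv_hom_id_assoc]⟩

variable {X : Scheme.{u}}

/-- One step: after a modification there is a quotient line bundle. -/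
theorem exists_line_quotient [IsIntegral X] {r : ℕ} {E : X.Modules} (hE : FlatMod.IsFinLocFreeOfRank (r + 1) E) :
    ∃ (X' : Scheme.{u}) (f : X' ⟶ X) (_ : IsIntegral X') (_ : IsProper f) (U : X.Opens),
      (U : Set X).Nonempty ∧ IsIso (f ∣_ U) ∧
      ∃ (L : X'.Modules) (s : (Scheme.Modules.pullback f).obj E ⟶ L), PicF.IsInvertible L ∧ Epi s := by
  classical
  haveI : Coh.IsQCoh E :=
    CAlgH3.LocFreeFactor.isQCoh_of_finLocFree (VarietyLib.isFinLocFree_of_rank hE)
  obtain ⟨𝒮, j, P, π, chart, O1, lam, φ, D⟩ := RelVALib.exists_bundle E (inferInstance : Coh.IsQCoh E)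
  haveI : IsProper π := RelVALib.isProper_bundle D.hE
    (DQCoh.FreeLocus17.isFT_of_finLocFree (VarietyLib.isFinLocFree_of_rank hE)) D.hj D.hP
  obtain ⟨q, hq⟩ := CycLib28.PB.exists_isProjBundle D.hE D.hj D.hP D.hO1
  obtain ⟨U, hxU, ⟨e⟩⟩ := hE (genericPoint X)
  -- the section over `U`
  let pr : FlatMod.freeMod U.toScheme (r + 1) ⟶ Coh.structureModule U.toScheme :=
    Sigma.desc fun k => if k = 0 then 𝟙 _ else 0
  haveI : Epi pr := epi_of_epi_fac (h := 𝟙 _)
    (show Sigma.ι (fun _ : Fin (r + 1) => Coh.structureModule U.toScheme) 0 ≫ pr = 𝟙 _ by simp [pr])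
  let s₀ : (Scheme.Modules.pullback U.ι).obj E ⟶ Coh.structureModule U.toScheme :=
    ((Scheme.Modules.restrictFunctorIsoPullback U.ι).app E).inv ≫ e.hom ≫ pr
  haveI : Epi s₀ := by dsimp only [s₀]; infer_instance
  obtain ⟨σ, ⟨hσ, -⟩, -⟩ := hq.univ U.toScheme U.ι _ KModel28.rank_structure s₀ inferInstance
  haveI : Nonempty U.toScheme := ⟨⟨genericPoint X, hxU⟩⟩
  let Z : Closeds P := ⟨closure (Set.range σ), isClosed_closure⟩
  have hirr : IsIrreducible (Z : Set P) := by
    show IsIrreducible (closure (Set.range σ))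
    rw [← Set.image_univ]
    exact ((IrreducibleSpace.isIrreducible_univ U.toScheme).image σ σ.continuous.continuousOn).closure
  let I := Scheme.IdealSheafData.vanishingIdeal Z
  haveI : IsIntegral I.subscheme := VarietyLib.isIntegral_vanishingIdeal Z hirr
  have hrg : Set.range I.subschemeι = (Z : Set P) := by
    rw [Scheme.IdealSheafData.range_subschemeι, Scheme.IdealSheafData.coe_support_vanishingIdeal]
  let f : I.subscheme ⟶ X := I.subschemeι ≫ π
  haveI : IsProper f := by dsimp only [f]; infer_instance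
  -- comparison over `U`
  let V : P.Opens := π ⁻¹ᵁ U
  have hσV : Set.range σ ⊆ Set.range V.ι := by
    rintro _ ⟨x, rfl⟩
    rw [Scheme.Opens.range_ι]
    show π (σ x) ∈ U
    rw [← Scheme.Hom.comp_apply, hσ]
    exact x.2
  let σ' : U.toScheme ⟶ V.toScheme := IsOpenImmersion.lift V.ι σ hσV
  have hσ' : σ' ≫ V.ι = σ := IsOpenImmersion.lift_fac _ _ _
  have hσπ : σ' ≫ (π ∣_ U) = 𝟙 _ := by
    rw [← cancel_mono U.ι, Category.assoc, morphismRestrict_ι, ← Category.assoc, hσ', hσ, Category.id_comp]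
  haveI : IsClosedImmersion σ' := by
    haveI : IsClosedImmersion (σ' ≫ (π ∣_ U)) := by rw [hσπ]; infer_instance
    haveI : IsSeparated (π ∣_ U) := inferInstance
    exact IsClosedImmersion.of_comp σ' (π ∣_ U)
  let c : (I.subschemeι ⁻¹ᵁ V).toScheme ⟶ V.toScheme := I.subschemeι ∣_ V
  haveI : IsClosedImmersion c :=
    IsZariskiLocalAtTarget.restrict (P := @IsClosedImmersion) (f := I.subschemeι) inferInstance V
  have hmem : ∀ y : V.toScheme, y ∈ Set.range σ' ↔ V.ι y ∈ (Z : Set P) := fun y => by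
    constructor
    · rintro ⟨x, rfl⟩
      rw [← Scheme.Hom.comp_apply, hσ']
      exact subset_closure ⟨x, rfl⟩
    · intro hy
      have hy' : y ∈ closure (Set.range σ') := by
        rw [V.ι.isOpenEmbedding.isInducing.closure_eq_preimage_closure_image, Set.mem_preimage, ← Set.range_comp]
        show V.ι y ∈ closure (Set.range fun x => V.ι (σ' x))
        simp only [← Scheme.Hom.comp_apply, hσ']
        exact hy
      rwa [σ'.isClosedEmbedding.isClosed_range.closure_eq] at hy'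
  have hcr : ∀ y : V.toScheme, y ∈ Set.range c ↔ V.ι y ∈ (Z : Set P) := fun y => by
    constructor
    · rintro ⟨x, rfl⟩
      rw [← hrg, ← Scheme.Hom.comp_apply, morphismRestrict_ι, Scheme.Hom.comp_apply]
      exact ⟨_, rfl⟩
    · intro hy
      rw [← hrg] at hy
      obtain ⟨w, hw⟩ := hy
      have hwV : w ∈ I.subschemeι ⁻¹ᵁ V := by
        show I.subschemeι w ∈ V
        rw [hw]; exact y.2
      refine ⟨⟨w, hwV⟩, V.ι.isOpenEmbedding.injective ?_⟩
      rw [← Scheme.Hom.comp_apply, morphismRestrict_ι, Scheme.Hom.comp_apply]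
      exact hw
  obtain ⟨a, ha⟩ := exists_lift_of_range_le c σ' fun y hy => (hmem y).2 ((hcr y).1 hy)
  obtain ⟨b, hb⟩ := exists_lift_of_range_le σ' c fun y hy => (hcr y).2 ((hmem y).1 hy)
  haveI : IsIso a := ⟨b, by rw [← cancel_mono c, Category.assoc, hb, ha, Category.id_comp],
    by rw [← cancel_mono σ', Category.assoc, ha, hb, Category.id_comp]⟩
  have hfU : IsIso (f ∣_ U) := by
    have h2 : a = c ≫ (π ∣_ U) := by rw [← ha, Category.assoc, hσπ, Category.comp_id]
    have h3 : IsIso (c ≫ (π ∣_ U)) := h2 ▸ inferInstance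
    show IsIso ((I.subschemeι ≫ π) ∣_ U)
    rw [morphismRestrict_comp]
    exact h3
  refine ⟨I.subscheme, f, inferInstance, inferInstance, U, ⟨genericPoint X, hxU⟩, hfU,
    (Scheme.Modules.pullback I.subschemeι).obj O1,
    (Scheme.Modules.pullbackComp I.subschemeι π).inv.app E ≫ (Scheme.Modules.pullback I.subschemeι).map q,
    PicLoc.isInvertible_pullback _ (KRRPBLib.isInvertible_of_rankOne hq.invertible), ?_⟩
  haveI := hq.epi
  haveI : Epi ((Scheme.Modules.pullback I.subschemeι).map q) :=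
    haveI := (Scheme.Modules.pullbackPushforwardAdjunction I.subschemeι).isLeftAdjoint
    inferInstance
  exact epi_comp _ _

/-- A filtration by line bundles on some modification. -/
def HasFlag (X' : Scheme.{u}) (F : X'.Modules) (r : ℕ) : Prop :=
  ∃ (M : Fin (r + 1) → X'.Modules) (L : Fin r → X'.Modules),
    IsZero (M 0) ∧ Nonempty (M (Fin.last r) ≅ F) ∧
      ∀ i : Fin r, PicF.IsInvertible (L i) ∧
        ∃ S : ShortComplex X'.Modules, S.ShortExact ∧ Nonempty (S.X₁ ≅ M i.castSucc) ∧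
          Nonempty (S.X₂ ≅ M i.succ) ∧ Nonempty (S.X₃ ≅ L i)

theorem HasFlag.extend {X' : Scheme.{u}} {r : ℕ} (S : ShortComplex X'.Modules) (hS : S.ShortExact)
    (h₃ : PicF.IsInvertible S.X₃) (h : HasFlag X' S.X₁ r) {F : X'.Modules} (e : S.X₂ ≅ F) :
    HasFlag X' F (r + 1) := by
  obtain ⟨M, L, h0, ⟨eK⟩, hM⟩ := h
  refine ⟨Fin.snoc M F, Fin.snoc L S.X₃, ?_, ⟨eqToIso (Fin.snoc_last _ _)⟩, fun i => ?_⟩
  · rw [show (0 : Fin (r + 2)) = Fin.castSucc 0 from rfl, Fin.snoc_castSucc]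
    exact h0
  · cases i using Fin.lastCases with
    | last =>
      rw [Fin.snoc_last, Fin.snoc_castSucc, Fin.succ_last, Fin.snoc_last]
      exact ⟨h₃, S, hS, ⟨eK.symm⟩, ⟨e⟩, ⟨Iso.refl _⟩⟩
    | cast k =>
      rw [Fin.snoc_castSucc, Fin.snoc_castSucc, ← Fin.castSucc_succ, Fin.snoc_castSucc]
      exact hM k

theorem exists_flag : ∀ (r : ℕ) (X : Scheme.{u}) [IsIntegral X] (E : X.Modules),
    FlatMod.IsFinLocFreeOfRank r E →
      ∃ (X' : Scheme.{u}) (f : X' ⟶ X) (_ : IsIntegral X') (_ : IsProper f) (U : X.Opens),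
        (U : Set X).Nonempty ∧ IsIso (f ∣_ U) ∧ HasFlag X' ((Scheme.Modules.pullback f).obj E) r := by
  intro r
  induction r with
  | zero =>
    intro X _ E hE
    refine ⟨X, 𝟙 X, inferInstance, inferInstance, ⊤, ⟨genericPoint X, trivial⟩, inferInstance,
      fun _ => E, Fin.elim0, KModel28.isZero_of_rank_zero hE, ⟨((Scheme.Modules.pullbackId X).app E).symm⟩,
      fun i => i.elim0⟩
  | succ r ih =>
    intro X _ E hE
    obtain ⟨X₁, f₁, hX₁, hf₁, U, hUne, hU, L, s, hL, hs⟩ := exists_line_quotient hE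
    haveI := hX₁
    haveI := hs
    have hE₁ := CycLib28.PB.Ops.isFinLocFreeOfRank_kernel_line
      (VarietyLib.isFinLocFreeOfRank_pullback f₁ hE) hL s
    obtain ⟨X₂, f₂, hX₂, hf₂, U₂, hU₂ne, hU₂, hflag⟩ := ih X₁ _ hE₁
    haveI := hX₂
    haveI := hf₁
    haveI := hf₂
    haveI := hU
    let W : X.Opens := U.ι ''ᵁ ((inv (f₁ ∣_ U)) ⁻¹ᵁ ((f₁ ⁻¹ᵁ U).ι ⁻¹ᵁ U₂))
    have hWU : W ≤ U := by
      rintro _ ⟨x, -, rfl⟩
      exact x.2
    have hW₂ : f₁ ⁻¹ᵁ W ≤ U₂ := by
      intro w hw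
      obtain ⟨x, hx, hxw⟩ := hw
      have hwU : w ∈ f₁ ⁻¹ᵁ U := by
        show f₁ w ∈ U
        rw [← hxw]; exact x.2
      have h1 : (f₁ ∣_ U) ⟨w, hwU⟩ = x := by
        apply U.ι.isOpenEmbedding.injective
        rw [← Scheme.Hom.comp_apply, morphismRestrict_ι, Scheme.Hom.comp_apply]
        exact hxw.symm
      have h2 : inv (f₁ ∣_ U) x = ⟨w, hwU⟩ := by
        rw [← h1, ← Scheme.Hom.comp_apply, IsIso.hom_inv_id]
        rfl
      have h3 : (f₁ ⁻¹ᵁ U).ι (inv (f₁ ∣_ U) x) ∈ U₂ := hx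
      rw [h2] at h3
      exact h3
    have hne : ((f₁ ⁻¹ᵁ U : X₁.Opens) : Set X₁).Nonempty := by
      obtain ⟨x, hx⟩ := hUne
      exact ⟨_, (inv (f₁ ∣_ U) ⟨x, hx⟩).2⟩
    obtain ⟨w, hwU, hw₂⟩ := nonempty_preirreducible_inter (f₁ ⁻¹ᵁ U).2 U₂.2 hne hU₂ne
    have hwW : f₁ w ∈ W := by
      refine ⟨(f₁ ∣_ U) ⟨w, hwU⟩, ?_, ?_⟩
      · show (f₁ ⁻¹ᵁ U).ι (inv (f₁ ∣_ U) ((f₁ ∣_ U) ⟨w, hwU⟩)) ∈ U₂
        rw [← Scheme.Hom.comp_apply (f₁ ∣_ U), IsIso.hom_inv_id]
        exact hw₂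
      · show ((f₁ ∣_ U) ≫ U.ι) ⟨w, hwU⟩ = f₁ w
        rw [morphismRestrict_ι]
        rfl
    haveI : IsIso (f₁ ∣_ W) := Models7.isIso_restrict_of_le f₁ hWU
    haveI := hU₂
    haveI : IsIso (f₂ ∣_ (f₁ ⁻¹ᵁ W)) := Models7.isIso_restrict_of_le f₂ hW₂
    refine ⟨X₂, f₂ ≫ f₁, hX₂, inferInstance, W, ⟨_, hwW⟩, ?_, ?_⟩
    · rw [morphismRestrict_comp]
      exact IsIso.comp_isIso' ‹IsIso (f₂ ∣_ (f₁ ⁻¹ᵁ W))› ‹IsIso (f₁ ∣_ W)›
    · have hS : (ShortComplex.mk (kernel.ι s) s (kernel.condition s)).ShortExact :=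
        { exact := ShortComplex.exact_of_f_is_kernel _ (kernelIsKernel s) }
      have hS₂ := KPull28.shortExact_pullback f₂ hS
        (VarietyLib.isFinLocFree_of_rank (PicLib.isFinLocFreeOfRank_one hL))
      exact hflag.extend _ hS₂ (PicLoc.isInvertible_pullback _ hL)
        ((Scheme.Modules.pullbackComp f₂ f₁).app E)

end Groth.Agent.FlagModH2
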